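import Groth.Agent.Euler15.Map
import Groth.Agent.KRRPBLib.Chart
import Groth.Agent.OmegaLib.Sections
import Groth.Agent.AmpleLib.Twist
import Groth.Agent.AmpleLib.Ample
import Groth.Agent.Coherent.TensorQcoh
import Groth.Agent.CohExch.IsoCrit
import Groth.Agent.DCat.PullPerf
import Groth.Agent.EGA43.InjFibre.Scheme
import Mathlib.RingTheory.Kaehler.Polynomial

/-!
# The Euler sequence of a projective bundle
-/

set_option autoImplicit false
set_option backward.isDefEq.respectTransparency false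
set_option maxHeartbeats 2000000

universe u

open CategoryTheory CategoryTheory.Limits AlgebraicGeometry TopologicalSpace Opposite
open Groth.Agent.Coherent Groth.Agent.PicLib Groth.Agent.AmpleLib

namespace Groth.Agent.Euler15

section Ring

variable {R A : Type u} [CommRing R] [CommRing A] [Algebra R A] {m : ℕ} (g : MvPolynomial (Fin m) R ≃ₐ[R] A)

/-- The differentials of the coordinates of a polynomial ring span. -/
theorem span_D_coord :
    Submodule.span A (Set.range fun j => KaehlerDifferential.D R A (g (MvPolynomial.X j))) = ⊤ := by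
  rw [eq_top_iff, ← KaehlerDifferential.span_range_derivation, Submodule.span_le]
  rintro _ ⟨a, rfl⟩
  obtain ⟨q, rfl⟩ := g.surjective a
  induction q using MvPolynomial.induction_on with
  | C r =>
    rw [show g (MvPolynomial.C r) = algebraMap R A r from g.commutes r, Derivation.map_algebraMap]
    exact Submodule.zero_mem _
  | add p q hp hq => rw [map_add, map_add]; exact Submodule.add_mem _ hp hq
  | mul_X p j hp =>
    rw [map_mul, Derivation.leibniz]
    exact Submodule.add_mem _ (Submodule.smul_mem _ _ (Submodule.subset_span ⟨j, rfl⟩))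
      (Submodule.smul_mem _ _ hp)

/-- The differentials of the coordinates of a polynomial ring are independent. -/
theorem eq_zero_of_sum_D_coord (a : Fin m → A)
    (h : ∑ j, a j • KaehlerDifferential.D R A (g (MvPolynomial.X j)) = 0) (j : Fin m) : a j = 0 := by
  classical
  let δ : Derivation R A A :=
    Derivation.mk'
      { toFun := fun x => g (MvPolynomial.pderiv j (g.symm x))
        map_add' := fun x y => by simp
        map_smul' := fun r x => by
          rw [map_smul, Derivation.map_smul, map_smul]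
          rfl }
      (fun x y => by
        show g (MvPolynomial.pderiv j (g.symm (x * y))) = _
        simp only [map_mul, Derivation.leibniz, smul_eq_mul, map_add, AlgEquiv.apply_symm_apply,
          LinearMap.coe_mk, AddHom.coe_mk])
  have h' := congrArg δ.liftKaehlerDifferential h
  rw [map_sum, map_zero] at h'
  simp only [map_smul, Derivation.liftKaehlerDifferential_comp_D, smul_eq_mul] at h'
  rw [Finset.sum_eq_single j] at h'
  · have : δ (g (MvPolynomial.X j)) = 1 := by simp [δ, MvPolynomial.pderiv_X_self]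
    rwa [this, mul_one] at h'
  · intro i _ hi
    have : δ (g (MvPolynomial.X i)) = 0 := by simp [δ, MvPolynomial.pderiv_X_of_ne hi]
    rw [this, mul_zero]
  · exact fun hj => absurd (Finset.mem_univ j) hj

end Ring

variable {S P : Scheme.{u}} {p : P ⟶ S} {F : S.Modules} {O1 : P.Modules}
  {q : (Scheme.Modules.pullback p).obj F ⟶ O1}

/-- A basis on the affine opens near a point of the base. -/
theorem exists_affine_basis (hF : FlatMod.IsFinLocFree F) (y : S) :
    ∃ (U : S.Opens) (n : ℕ) (e : ULift.{u} (Fin n) → Γ(F, U)) (b : Module.Basis (Fin n) Γ(S, U) Γ(F, U)),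
      IsAffineOpen U ∧ y ∈ U ∧ IsBasisOn F U e ∧ ∀ i, b i = e ⟨i⟩ := by
  classical
  obtain ⟨U₀, n, e₀, hy, hb₀⟩ := PicLib.exists_isBasisOn hF y
  obtain ⟨U, hU, hyU, hUle⟩ := Opens.isBasis_iff_nbhd.mp S.isBasis_affineOpens hy
  let e : ULift.{u} (Fin n) → Γ(F, U) := fun i => resM F hUle (e₀ i)
  have hb : IsBasisOn F U e := fun V hV => by
    have h := hb₀ (hV.trans hUle)
    simpa only [e, resM_resM] using h
  have hbij : Function.Bijective (Fintype.linearCombination Γ(S, U) e) := by
    convert hb (le_refl U) using 1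
    funext c
    simp [Fintype.linearCombination_apply, resM_refl]
  let b₀ : Module.Basis (ULift.{u} (Fin n)) Γ(S, U) Γ(F, U) :=
    Module.Basis.ofEquivFun (LinearEquiv.ofBijective _ hbij).symm
  refine ⟨U, n, e, b₀.reindex Equiv.ulift, hU, hyU, hb, fun i => ?_⟩
  simp [b₀, Fintype.linearCombination_apply, Pi.single_apply, ite_smul]

theorem bijective_coordHom {U : S.Opens} {m : ℕ} [Coh.IsQCoh F] (hPB : KRR.IsProjBundle p F O1 q)
    (hU : IsAffineOpen U) (b : Module.Basis (Fin (m + 1)) Γ(S, U) Γ(F, U)) (k : Fin (m + 1)) :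
    IsAffineOpen (KRRPBLib.D q (b k)) ∧ Function.Bijective (KRRPBLib.coordHom (q := q) b k) := by
  haveI := KRRPBLib.isIso_toAffineSpace hPB hU b k
  refine ⟨IsAffine.of_isIso (KRRPBLib.toAffineSpace (q := q) b k), ?_⟩
  have h := KRRPBLib.appTop_toAffineSpace (q := q) b k
  have : IsIso (CommRingCat.ofHom (KRRPBLib.coordHom (q := q) b k) ≫
      (KRRPBLib.D q (b k)).topIso.inv) := by rw [← h]; infer_instance
  have := IsIso.of_isIso_comp_right (CommRingCat.ofHom (KRRPBLib.coordHom (q := q) b k))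
    (KRRPBLib.D q (b k)).topIso.inv
  exact ConcreteCategory.bijective_of_isIso (CommRingCat.ofHom (KRRPBLib.coordHom (q := q) b k))

/-- The Euler sequence. -/
theorem nonempty_iso_kernel (hF : FlatMod.IsFinLocFree F) (hPB : KRR.IsProjBundle p F O1 q)
    (Ω : P.Modules) (d : OmegaSh.Der p Ω) (hd : OmegaSh.IsUniversal d) :
    Nonempty (CohB1.tensorMod Ω O1 ≅ kernel q) := by
  classical
  haveI : Coh.IsQCoh F := DCat.PullPerf.isQCoh_of_finLocFree hF
  haveI : Coh.IsQCoh O1 := AmpleLib.isQCoh_of_isInvertible (KRRPBLib.isInvertible_of_rankOne hPB.invertible)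
  haveI : Coh.IsQCoh Ω := OmegaLib.isQCoh_of_isUniversal hd
  haveI : Coh.IsQCoh ((Scheme.Modules.pullback p).obj F) :=
    DCat.PullPerf.isQCoh_of_finLocFree (DCat.PullPerf.isFinLocFree_pullback p hF)
  haveI : Coh.IsQCoh (kernel q) := Coherent.isQCoh_kernel q
  haveI : Coh.IsQCoh (CohB1.tensorMod Ω O1) := Coherent.isQCoh_tensorMod Ω O1
  obtain ⟨ψ, hψ⟩ := exists_fundamentalForm d q
  suffices IsIso ψ from ⟨(asIso ψ).symm⟩
  refine CohExch.isIso_of_bijective_affine_cover ψ fun y => ?_
  obtain ⟨U, n, e, b, hU, hyU, hb, hbe⟩ := exists_affine_basis hF (p y)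
  obtain ⟨k, hk⟩ := KRRPBLib.exists_mem_D hPB b (show y ∈ p ⁻¹ᵁ U from hyU) hU
  cases n with
  | zero => exact k.elim0
  | succ m =>
  obtain ⟨hDaff, hco⟩ := bijective_coordHom hPB hU b k
  refine ⟨KRRPBLib.D q (b k), hDaff, hk, ?_⟩
  have hle : KRRPBLib.D q (b k) ≤ p ⁻¹ᵁ U := KRRPBLib.D_le q (b k)
  let P' : Fin (m + 1) → Γ((Scheme.Modules.pullback p).obj F, KRRPBLib.D q (b k)) :=
    fun i => resM _ hle (PicLib.pullSec p (b i))
  let t : Fin (m + 1) → Γ(P, KRRPBLib.D q (b k)) := fun i => KRRPBLib.coord q (b k) (b i)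
  let g : Γ(O1, KRRPBLib.D q (b k)) := resM O1 hle (KRRPBLib.sec q (b k))
  have hg : IsGen O1 (KRRPBLib.D q (b k)) g := KRRPBLib.isGen_D q (b k)
  have hsec : ∀ i, KRRPBLib.sec q (b i) = q.app (p ⁻¹ᵁ U) (PicLib.pullSec p (b i)) := fun i => by
    rw [KRRPBLib.sec, KRRPBLib.adjunct, Adjunction.homEquiv_unit]
    rfl
  have ht : ∀ i, t i • g = resM O1 hle (q.app (p ⁻¹ᵁ U) (PicLib.pullSec p (b i))) := fun i => by
    rw [← hsec i]
    exact KRRPBLib.coord_spec q (b k) (b i)
  have htk : t k = 1 := KRRPBLib.coord_self q (b k)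
  have hbP : Function.Bijective fun c : Fin (m + 1) → Γ(P, KRRPBLib.D q (b k)) => ∑ i, c i • P' i := by
    have h := (hb.pull p) hle
    have he : Function.Bijective fun c : Fin (m + 1) → Γ(P, KRRPBLib.D q (b k)) =>
        (fun i : ULift.{u} (Fin (m + 1)) => c i.down) := by
      refine ⟨fun c c' h => funext fun i => congrFun h ⟨i⟩, fun c => ⟨fun i => c ⟨i⟩, rfl⟩⟩
    convert h.comp he using 1
    funext c
    exact Fintype.sum_equiv Equiv.ulift.symm _ _ fun i => by
      show c i • resM _ hle (PicLib.pullSec p (b i)) = _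
      rw [hbe i]
      rfl
  have hu : ∀ c : Fin (m + 1) → Γ(P, KRRPBLib.D q (b k)),
      q.app (KRRPBLib.D q (b k)) (∑ i, c i • P' i) = (∑ i, c i * t i) • g := fun c => by
    rw [map_sum, Finset.sum_smul]
    refine Finset.sum_congr rfl fun i _ => ?_
    rw [Scheme.Modules.Hom.app_smul, app_resM q, ← ht i, mul_smul]
  have hgz : ∀ r : Γ(P, KRRPBLib.D q (b k)), r • g = 0 → r = 0 := fun r hr => by
    refine (hg (KRRPBLib.D q (b k)) le_rfl).1 ?_
    show r • resM O1 _ g = (0 : Γ(P, KRRPBLib.D q (b k))) • resM O1 _ g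
    rw [resM_refl, hr, zero_smul]
  have hval : ∀ (s : Γ(kernel q, KRRPBLib.D q (b k))) (c : Fin (m + 1) → Γ(P, KRRPBLib.D q (b k))),
      (kernel.ι q).app _ s = ∑ i, c i • P' i →
      (∑ i, c i * t i = 0) ∧
      ψ.app _ s = tmul (-∑ j, c (k.succAbove j) • d.app _ (t (k.succAbove j))) g := by
    intro s c hs
    have h0 : ∑ i, c i * t i = 0 := by
      refine hgz _ ?_
      rw [← hu, ← hs, Coherent.kernel_ι_app_zero]
    refine ⟨h0, ?_⟩
    have h := hψ U (KRRPBLib.D q (b k)) hle (fun i : ULift.{u} (Fin (m + 1)) => b i.down) (fun i => c i.down) s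
      (hs.trans (Fintype.sum_equiv Equiv.ulift.symm _ _ fun i => rfl))
    rw [h]
    have h1 : (∑ i : ULift.{u} (Fin (m + 1)), tmul (d.app _ (c i.down))
        (resM O1 hle (q.app (p ⁻¹ᵁ U) (PicLib.pullSec p (b i.down))))) = tmul (∑ i, t i • d.app _ (c i)) g := by
      rw [show tmul (∑ i, t i • d.app _ (c i)) g = ∑ i, tmul (t i • d.app _ (c i)) g from
        map_sum (AddMonoidHom.mk' (fun z => tmul z g) fun a a' => tmul_add_left a a' g) _ _]
      refine Fintype.sum_equiv Equiv.ulift _ _ fun i => ?_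
      rw [← ht]
      exact (tmul_smul_right _ _ _).trans (tmul_smul_left _ _ _).symm
    refine h1.trans (congrArg (fun z => tmul z g) ?_)
    have h2 := congrArg (d.app (KRRPBLib.D q (b k))) h0
    simp only [map_sum, OmegaLib.app_mul, map_zero, Finset.sum_add_distrib] at h2
    rw [Fin.sum_univ_succAbove (fun i => c i • d.app (KRRPBLib.D q (b k)) (t i)) k] at h2
    simp only [htk, OmegaLib.app_one, smul_zero, zero_add] at h2
    exact eq_neg_of_add_eq_zero_right h2
  let φ : MvPolynomial (Fin m) Γ(S, U) →+* Γ(P, KRRPBLib.D q (b k)) := KRRPBLib.coordHom (q := q) b k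
  letI := (p.appLE U (KRRPBLib.D q (b k)) hle).hom.toAlgebra
  let gA : MvPolynomial (Fin m) Γ(S, U) ≃ₐ[Γ(S, U)] Γ(P, KRRPBLib.D q (b k)) :=
    AlgEquiv.ofBijective
      { φ with commutes' := fun r => MvPolynomial.eval₂Hom_C _ _ r } hco
  have hgA : ∀ j, gA (MvPolynomial.X j) = t (k.succAbove j) := fun j => MvPolynomial.eval₂Hom_X' _ _ j
  obtain ⟨E, hE⟩ := OmegaLib.exists_sections_equiv hd hle hU hDaff
  have hdt : ∀ a : Fin m → Γ(P, KRRPBLib.D q (b k)),
      E (∑ j, a j • KaehlerDifferential.D Γ(S, U) Γ(P, KRRPBLib.D q (b k)) (gA (MvPolynomial.X j))) =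
        ∑ j, a j • d.app _ (t (k.succAbove j)) := fun a => by
    rw [map_sum]
    exact Finset.sum_congr rfl fun j _ => by rw [map_smul, hE, hgA]
  have htm := AmpleLib.bijective_tmul_gen (M := Ω) hg (KRRPBLib.D q (b k)) le_rfl
  simp only [resM_refl] at htm
  refine ⟨(injective_iff_map_eq_zero _).2 fun s hs => ?_, fun z => ?_⟩
  · obtain ⟨c, hc⟩ := hbP.2 ((kernel.ι q).app _ s)
    obtain ⟨h0, h1⟩ := hval s c hc.symm
    rw [h1] at hs
    have h2 := htm.1 (a₂ := 0) (hs.trans (tmul_zero_left g).symm)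
    rw [neg_eq_zero, ← hdt (fun j => c (k.succAbove j)), LinearEquiv.map_eq_zero_iff] at h2
    have h3 := eq_zero_of_sum_D_coord gA _ h2
    have hck : c k = 0 := by
      rw [Fin.sum_univ_succAbove _ k] at h0
      simp only [htk, mul_one, h3, zero_mul, Finset.sum_const_zero, add_zero] at h0
      exact h0
    have hc0 : c = 0 := funext fun i => by
      rcases Fin.eq_self_or_eq_succAbove k i with rfl | ⟨j, rfl⟩
      · exact hck
      · exact h3 j
    refine Coherent.app_injective_of_mono (kernel.ι q) _ ?_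
    rw [← hc, hc0, map_zero]
    simp
  · obtain ⟨w, hw⟩ := htm.2 z
    obtain ⟨a, ha⟩ : ∃ a : Fin m → Γ(P, KRRPBLib.D q (b k)),
        ∑ j, a j • KaehlerDifferential.D Γ(S, U) Γ(P, KRRPBLib.D q (b k)) (gA (MvPolynomial.X j)) = E.symm w := by
      rw [← Submodule.mem_span_range_iff_exists_fun, span_D_coord gA]
      trivial
    let c : Fin (m + 1) → Γ(P, KRRPBLib.D q (b k)) :=
      Fin.insertNth (α := fun _ => Γ(P, KRRPBLib.D q (b k))) k (∑ j, a j * t (k.succAbove j)) fun j => -a j
    have hck : c k = ∑ j, a j * t (k.succAbove j) := Fin.insertNth_apply_same ..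
    have hcj : ∀ j, c (k.succAbove j) = -a j := fun j => Fin.insertNth_apply_succAbove ..
    have hc0 : ∑ i, c i * t i = 0 := by
      rw [Fin.sum_univ_succAbove _ k, hck, htk, mul_one]
      simp only [hcj, neg_mul, Finset.sum_neg_distrib, add_neg_cancel]
    obtain ⟨s, hs⟩ := Coherent.kernel_sections_exact q (∑ i, c i • P' i) (by rw [hu, hc0, zero_smul])
    refine ⟨s, ?_⟩
    rw [(hval s c hs).2, ← hw]
    refine congrArg (fun z => tmul z g) ?_
    simp only [hcj, neg_smul, Finset.sum_neg_distrib, neg_neg]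
    rw [← hdt a, ha, LinearEquiv.apply_symm_apply]

end Groth.Agent.Euler15
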