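import Groth.Agent.Euler15.Twisted
import Groth.Agent.PicLib.BasisOn
import Groth.Agent.Coherent.QcohOps

/-!
# The second fundamental form of the kernel of a quotient of a pulled back module

For `p : P ⟶ S`, a derivation `d : O_P → Ω` over `S` and `u : p^* F ⟶ L`, the map `ker u ⟶ Ω ⊗ L` with
`∑ a_i p^* e_i ↦ ∑ d a_i ⊗ u (p^* e_i)`.
-/

set_option autoImplicit false
set_option backward.isDefEq.respectTransparency false
set_option maxHeartbeats 1000000

universe u

open CategoryTheory CategoryTheory.Limits AlgebraicGeometry TopologicalSpace Opposite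
open Groth.Agent.Coherent Groth.Agent.PicLib Groth.Agent.AmpleLib

namespace Groth.Agent.Euler15

variable {P S : Scheme.{u}} {p : P ⟶ S} {Ω : P.Modules} (d : OmegaSh.Der p Ω) {F : S.Modules} {L : P.Modules}
  (u : (Scheme.Modules.pullback p).obj F ⟶ L)

/-- Existence of the extension `p^* F ⟶ twist` of `u`. -/
theorem exists_extension : ∃ G : (Scheme.Modules.pullback p).obj F ⟶ twist d L,
    (∀ (W : S.Opens) (x : Γ(F, W)),
      pFst d L _ (G.app (p ⁻¹ᵁ W) (PicLib.pullSec p x)) = u.app (p ⁻¹ᵁ W) (PicLib.pullSec p x) ∧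
      pSnd d L _ (G.app (p ⁻¹ᵁ W) (PicLib.pullSec p x)) = 0) ∧
    ∀ (U : P.Opens) (s : Γ((Scheme.Modules.pullback p).obj F, U)),
      pFst d L U (G.app U s) = u.app U s := by
  let adj := (Scheme.Modules.pullbackPushforwardAdjunction p).homEquiv F L u
  let M := (Scheme.Modules.pushforward p).obj (twist d L)
  let fA : ∀ W : S.Opens, Γ(F, W) →+ Γ(M, W) := fun W =>
    ((toSplit d L (p ⁻¹ᵁ W)).symm.toAddMonoidHom).comp
      (((biprod.inl (X := L) (Y := CohB1.tensorMod Ω L)).app (p ⁻¹ᵁ W)).hom.comp (adj.app W).hom)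
  have hlin : ∀ (W : S.Opens) (c : Γ(S, W)) (x : Γ(F, W)), fA W (c • x) = c • fA W x := by
    intro W c x
    show (biprod.inl (X := L) (Y := CohB1.tensorMod Ω L)).app (p ⁻¹ᵁ W) (adj.app W (c • x)) =
      tsmul d L (p.app W c) ((biprod.inl (X := L) (Y := CohB1.tensorMod Ω L)).app (p ⁻¹ᵁ W) (adj.app W x))
    rw [tsmul, corr, OmegaLib.app_app, tmul_zero_left, map_zero, add_zero, ← Scheme.Modules.Hom.app_smul]
    exact congrArg _ (Scheme.Modules.Hom.app_smul adj c x)
  let φ₀ : F.val ⟶ M.val := PresheafOfModules.homMk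
    { app := fun W => AddCommGrpCat.ofHom (fA W.unop)
      naturality := fun V W g => ConcreteCategory.hom_ext _ _ fun x => by
        show (biprod.inl (X := L) (Y := CohB1.tensorMod Ω L)).app (p ⁻¹ᵁ W.unop)
            (adj.app W.unop (resM F (leOfHom g.unop) x)) =
          resM (split L (Ω := Ω)) (p.preimage_mono (leOfHom g.unop))
            ((biprod.inl (X := L) (Y := CohB1.tensorMod Ω L)).app (p ⁻¹ᵁ V.unop) (adj.app V.unop x))
        rw [app_resM adj, ← app_resM (biprod.inl (X := L) (Y := CohB1.tensorMod Ω L))]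
        rfl }
    (fun W r x => hlin W.unop r x)
  let Φ : F ⟶ M := ⟨φ₀⟩
  let G := ((Scheme.Modules.pullbackPushforwardAdjunction p).homEquiv F (twist d L)).symm Φ
  refine ⟨G, ?_, ?_⟩
  · intro W x
    have hu : adj.app W x = u.app (p ⁻¹ᵁ W) (PicLib.pullSec p x) := by
      rw [show adj = (Scheme.Modules.pullbackPushforwardAdjunction p).homEquiv F L u from rfl,
        Adjunction.homEquiv_unit]
      rfl
    rw [PicLib.homEquiv_symm_app_pullSec]
    exact ⟨(fst_inl L _).trans hu, snd_inl L _⟩
  · let π₀ : (twist d L).val ⟶ L.val := PresheafOfModules.homMk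
      { app := fun W => AddCommGrpCat.ofHom (pFst d L W.unop)
        naturality := fun V W g => ConcreteCategory.hom_ext _ _ fun x =>
          app_resM (biprod.fst (X := L) (Y := CohB1.tensorMod Ω L)) (leOfHom g.unop) (toSplit d L V.unop x) }
      (fun W r x => pFst_smul d L r x)
    let π : twist d L ⟶ L := ⟨π₀⟩
    have h : G ≫ π = u := by
      refine ((Scheme.Modules.pullbackPushforwardAdjunction p).homEquiv F L).injective ?_
      rw [Adjunction.homEquiv_naturality_right, Equiv.apply_symm_apply]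
      refine Scheme.Modules.hom_ext _ _ fun W => ConcreteCategory.hom_ext _ _ fun x => ?_
      exact fst_inl L (adj.app W x)
    intro U s
    exact congrArg (fun φ : (Scheme.Modules.pullback p).obj F ⟶ L => φ.app U s) h

/-- The second fundamental form, with its values on combinations of pulled back sections. -/
theorem exists_fundamentalForm : ∃ ψ : kernel u ⟶ CohB1.tensorMod Ω L,
    ∀ (W : S.Opens) (V : P.Opens) (hVW : V ≤ p ⁻¹ᵁ W) {I : Type u} [Fintype I] (e : I → Γ(F, W))
      (a : I → Γ(P, V)) (s : Γ(kernel u, V)),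
      (kernel.ι u).app V s = ∑ i, a i • resM _ hVW (PicLib.pullSec p (e i)) →
      ψ.app V s = ∑ i, tmul (d.app V (a i)) (resM L hVW (u.app (p ⁻¹ᵁ W) (PicLib.pullSec p (e i)))) := by
  obtain ⟨G, hG, hGu⟩ := exists_extension d u
  have hzero : ∀ (U : P.Opens) (s : Γ(kernel u, U)), pFst d L U (G.app U ((kernel.ι u).app U s)) = 0 := by
    intro U s
    rw [hGu, kernel_ι_app_zero]
  have hlinψ : ∀ (U : P.Opens) (r : Γ(P, U)) (x : Γ(kernel u, U)),
      pSnd d L U (G.app U ((kernel.ι u).app U (r • x))) =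
        r • pSnd d L U (G.app U ((kernel.ι u).app U x)) := by
    intro U r x
    rw [Scheme.Modules.Hom.app_smul, Scheme.Modules.Hom.app_smul, pSnd_smul, hzero]
    have h0 : tmul (d.app U r) (0 : Γ(L, U)) = 0 := by
      rw [← zero_smul Γ(P, U) (0 : Γ(L, U)), tmul_smul_right, zero_smul]
    rw [h0, add_zero]
  let ψ₀ : (kernel u).val ⟶ (CohB1.tensorMod Ω L).val := PresheafOfModules.homMk
    { app := fun U => AddCommGrpCat.ofHom
        ((pSnd d L U.unop).comp ((G.app U.unop).hom.comp ((kernel.ι u).app U.unop).hom))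
      naturality := fun V W g => ConcreteCategory.hom_ext _ _ fun x => by
        show pSnd d L W.unop (G.app W.unop ((kernel.ι u).app W.unop (resM (kernel u) (leOfHom g.unop) x))) =
          resM _ (leOfHom g.unop) (pSnd d L V.unop (G.app V.unop ((kernel.ι u).app V.unop x)))
        rw [app_resM (kernel.ι u), app_resM G]
        exact app_resM (biprod.snd (X := L) (Y := CohB1.tensorMod Ω L)) (leOfHom g.unop) _ }
    (fun U r x => hlinψ U.unop r x)
  refine ⟨⟨ψ₀⟩, fun W V hVW I _ e a s hs => ?_⟩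
  show pSnd d L V (G.app V ((kernel.ι u).app V s)) = _
  rw [hs, map_sum, map_sum]
  refine Finset.sum_congr rfl fun i _ => ?_
  rw [Scheme.Modules.Hom.app_smul, pSnd_smul, app_resM G]
  have h1 : pSnd d L V (resM (twist d L) hVW (G.app (p ⁻¹ᵁ W) (PicLib.pullSec p (e i)))) = 0 := by
    refine (app_resM (biprod.snd (X := L) (Y := CohB1.tensorMod Ω L)) hVW _).trans ?_
    exact (congrArg _ (hG W (e i)).2).trans (map_zero _)
  have h2 : pFst d L V (resM (twist d L) hVW (G.app (p ⁻¹ᵁ W) (PicLib.pullSec p (e i)))) =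
      resM L hVW (u.app (p ⁻¹ᵁ W) (PicLib.pullSec p (e i))) := by
    refine (app_resM (biprod.fst (X := L) (Y := CohB1.tensorMod Ω L)) hVW _).trans ?_
    exact congrArg _ (hG W (e i)).1
  rw [h1, h2, smul_zero, zero_add]

end Groth.Agent.Euler15
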