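import Groth.Prelude.Def_Omega3
import Groth.Agent.AmpleLib.Tensor
import Groth.Agent.OmegaLib.Der

/-!
# The first order twist of a module along a derivation

For a derivation `d : O_X → Ω` and a module `L`, the abelian sheaf `L ⊕ (Ω ⊗ L)` with the module structure
`r • (l, z) = (r l, r z + d r ⊗ l)`.
-/

set_option autoImplicit false
set_option backward.isDefEq.respectTransparency false
set_option maxHeartbeats 1000000

universe u

open CategoryTheory CategoryTheory.Limits AlgebraicGeometry TopologicalSpace Opposite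
open Groth.Agent.Coherent Groth.Agent.PicLib Groth.Agent.AmpleLib

namespace Groth.Agent.Euler15

variable {X Y : Scheme.{u}} {f : X ⟶ Y} {Ω : X.Modules} (d : OmegaSh.Der f Ω) (L : X.Modules)

/-- The underlying split module. -/
noncomputable abbrev split : X.Modules := L ⊞ CohB1.tensorMod Ω L

/-- The correction term `(0, d r ⊗ l)`. -/
noncomputable def corr {U : X.Opens} (r : Γ(X, U)) (x : Γ(split L (Ω := Ω), U)) : Γ(split L (Ω := Ω), U) :=
  (biprod.inr (X := L) (Y := CohB1.tensorMod Ω L)).app U
    (tmul (d.app U r) ((biprod.fst (X := L) (Y := CohB1.tensorMod Ω L)).app U x))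

theorem fst_inr {U : X.Opens} (z : Γ(CohB1.tensorMod Ω L, U)) :
    (biprod.fst (X := L) (Y := CohB1.tensorMod Ω L)).app U
      ((biprod.inr (X := L) (Y := CohB1.tensorMod Ω L)).app U z) = 0 := by
  rw [← ConcreteCategory.comp_apply, ← Scheme.Modules.Hom.comp_app, biprod.inr_fst]
  rfl

theorem fst_inl {U : X.Opens} (l : Γ(L, U)) :
    (biprod.fst (X := L) (Y := CohB1.tensorMod Ω L)).app U
      ((biprod.inl (X := L) (Y := CohB1.tensorMod Ω L)).app U l) = l := by
  rw [← ConcreteCategory.comp_apply, ← Scheme.Modules.Hom.comp_app, biprod.inl_fst]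
  rfl

theorem snd_inr {U : X.Opens} (z : Γ(CohB1.tensorMod Ω L, U)) :
    (biprod.snd (X := L) (Y := CohB1.tensorMod Ω L)).app U
      ((biprod.inr (X := L) (Y := CohB1.tensorMod Ω L)).app U z) = z := by
  rw [← ConcreteCategory.comp_apply, ← Scheme.Modules.Hom.comp_app, biprod.inr_snd]
  rfl

theorem snd_inl {U : X.Opens} (l : Γ(L, U)) :
    (biprod.snd (X := L) (Y := CohB1.tensorMod Ω L)).app U
      ((biprod.inl (X := L) (Y := CohB1.tensorMod Ω L)).app U l) = 0 := by
  rw [← ConcreteCategory.comp_apply, ← Scheme.Modules.Hom.comp_app, biprod.inl_snd]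
  rfl

theorem fst_corr {U : X.Opens} (r : Γ(X, U)) (x : Γ(split L (Ω := Ω), U)) :
    (biprod.fst (X := L) (Y := CohB1.tensorMod Ω L)).app U (corr d L r x) = 0 :=
  fst_inr L _

/-- The twisted action. -/
noncomputable def tsmul {U : X.Opens} (r : Γ(X, U)) (x : Γ(split L (Ω := Ω), U)) : Γ(split L (Ω := Ω), U) :=
  r • x + corr d L r x

theorem fst_tsmul {U : X.Opens} (r : Γ(X, U)) (x : Γ(split L (Ω := Ω), U)) :
    (biprod.fst (X := L) (Y := CohB1.tensorMod Ω L)).app U (tsmul d L r x) =
      r • (biprod.fst (X := L) (Y := CohB1.tensorMod Ω L)).app U x := by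
  rw [tsmul, map_add, fst_corr, add_zero, Scheme.Modules.Hom.app_smul]

theorem tsmul_add {U : X.Opens} (r : Γ(X, U)) (x y : Γ(split L (Ω := Ω), U)) :
    tsmul d L r (x + y) = tsmul d L r x + tsmul d L r y := by
  simp only [tsmul, corr, map_add, tmul_add_right, smul_add]
  abel

theorem add_tsmul {U : X.Opens} (r r' : Γ(X, U)) (x : Γ(split L (Ω := Ω), U)) :
    tsmul d L (r + r') x = tsmul d L r x + tsmul d L r' x := by
  simp only [tsmul, corr, map_add, tmul_add_left, add_smul]
  abel

theorem mul_tsmul {U : X.Opens} (r r' : Γ(X, U)) (x : Γ(split L (Ω := Ω), U)) :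
    tsmul d L (r * r') x = tsmul d L r (tsmul d L r' x) := by
  rw [tsmul, show tsmul d L r (tsmul d L r' x) = r • tsmul d L r' x + corr d L r (tsmul d L r' x) from rfl]
  rw [corr, corr, fst_tsmul, OmegaLib.app_mul, tmul_add_left, tmul_smul_left, tmul_smul_left, tmul_smul_right,
    map_add, Scheme.Modules.Hom.app_smul, Scheme.Modules.Hom.app_smul, mul_smul, tsmul, smul_add, corr]
  abel

theorem one_tsmul {U : X.Opens} (x : Γ(split L (Ω := Ω), U)) : tsmul d L (1 : Γ(X, U)) x = x := by
  rw [tsmul, one_smul, corr, OmegaLib.app_one, tmul_zero_left, map_zero, add_zero]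

/-- The twisted module structure on sections. -/
@[reducible] noncomputable def tModule (U : X.Opens) : Module Γ(X, U) Γ(split L (Ω := Ω), U) where
  smul r x := tsmul d L r x
  one_smul x := one_tsmul d L x
  mul_smul r r' x := mul_tsmul d L r r' x
  smul_zero r := by
    show tsmul d L r 0 = 0
    have h := tsmul_add d L r 0 0
    rw [add_zero] at h
    exact left_eq_add.mp h
  smul_add r x y := tsmul_add d L r x y
  add_smul r r' x := add_tsmul d L r r' x
  zero_smul x := by
    show tsmul d L 0 x = 0
    have h := add_tsmul d L (0 : Γ(X, U)) 0 x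
    rw [add_zero] at h
    exact left_eq_add.mp h

theorem resM_tsmul {U V : X.Opens} (h : V ≤ U) (r : Γ(X, U)) (x : Γ(split L (Ω := Ω), U)) :
    resM (split L (Ω := Ω)) h (tsmul d L r x) = tsmul d L (res h r) (resM (split L (Ω := Ω)) h x) := by
  rw [tsmul, tsmul, map_add, resM_smul, corr, corr, ← app_resM, resM_tmul,
    app_resM (biprod.fst (X := L) (Y := CohB1.tensorMod Ω L))]
  rw [show resM Ω h (d.app U r) = d.app V (res h r) from (OmegaLib.app_map d h r).symm]

/-- The twisted module. -/
noncomputable def twist : X.Modules :=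
  ⟨@PresheafOfModules.ofPresheaf _ _ _ (split L (Ω := Ω)).presheaf (fun U => tModule d L U.unop)
    (fun U V g r x => resM_tsmul d L (leOfHom g.unop) r x), (split L (Ω := Ω)).isSheaf⟩

/-- The identification of sections with those of the split module. -/
noncomputable def toSplit (U : X.Opens) : Γ(twist d L, U) ≃+ Γ(split L (Ω := Ω), U) := AddEquiv.refl _

theorem toSplit_smul {U : X.Opens} (r : Γ(X, U)) (x : Γ(twist d L, U)) :
    toSplit d L U (r • x) = tsmul d L r (toSplit d L U x) := rfl

theorem toSplit_resM {U V : X.Opens} (h : V ≤ U) (x : Γ(twist d L, U)) :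
    toSplit d L V (resM (twist d L) h x) = resM (split L (Ω := Ω)) h (toSplit d L U x) := rfl

/-- The first component of a twisted section. -/
noncomputable def pFst (U : X.Opens) : Γ(twist d L, U) →+ Γ(L, U) :=
  ((biprod.fst (X := L) (Y := CohB1.tensorMod Ω L)).app U).hom.comp (toSplit d L U).toAddMonoidHom

/-- The second component of a twisted section. -/
noncomputable def pSnd (U : X.Opens) : Γ(twist d L, U) →+ Γ(CohB1.tensorMod Ω L, U) :=
  ((biprod.snd (X := L) (Y := CohB1.tensorMod Ω L)).app U).hom.comp (toSplit d L U).toAddMonoidHom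

theorem pFst_smul {U : X.Opens} (r : Γ(X, U)) (x : Γ(twist d L, U)) :
    pFst d L U (r • x) = r • pFst d L U x :=
  fst_tsmul d L r _

theorem pSnd_smul {U : X.Opens} (r : Γ(X, U)) (x : Γ(twist d L, U)) :
    pSnd d L U (r • x) = r • pSnd d L U x + tmul (d.app U r) (pFst d L U x) := by
  show (biprod.snd (X := L) (Y := CohB1.tensorMod Ω L)).app U (tsmul d L r (toSplit d L U x)) = _
  rw [tsmul, map_add, Scheme.Modules.Hom.app_smul, corr, snd_inr]
  rfl

end Groth.Agent.Euler15
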